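import Cfsg.Agent.Chars.Induced.Clifford
import Mathlib.GroupTheory.Complement
import Mathlib.GroupTheory.SchurZassenhaus

/-!
# Real characters over an inverted linear character

Let `N` be normal and `lam` a linear character of `N` which some element sends to its inverse.  If
`N` has a complement, then some real irreducible character has degree the index of the inertia
group; if `N` has odd order, then some real irreducible character lies over `lam`.
-/

set_option autoImplicit false
open Cfsg CfsgLib.Chars CfsgLib.Chars.Induced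
open scoped ComplexConjugate

namespace CfsgLib.RealDegree

theorem relIndex_dvd_index_of_normal_right {G : Type*} [Group G] [Finite G] (P K : Subgroup G)
    [K.Normal] : P.relIndex K ∣ P.index := by
  have h1 : (P ⊓ K).relIndex K * K.index = (P ⊓ K).index := Subgroup.relIndex_mul_index inf_le_right
  have h2 : (P ⊓ K).relIndex P * P.index = (P ⊓ K).index := Subgroup.relIndex_mul_index inf_le_left
  rw [Subgroup.inf_relIndex_right] at h1
  rw [Subgroup.inf_relIndex_left] at h2
  obtain ⟨c, hc⟩ := Subgroup.relIndex_dvd_index_of_normal K P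
  have hpos : 0 < K.relIndex P := Nat.pos_of_ne_zero (show K.relIndex P ≠ 0 from Subgroup.index_ne_zero_of_finite)
  refine ⟨c, Nat.eq_of_mul_eq_mul_left hpos ?_⟩
  rw [h2, ← h1, hc]
  ring

theorem subgroupOf_map_subtype' {G : Type*} [Group G] {K : Subgroup G} (P : Subgroup K) :
    (P.map K.subtype).subgroupOf K = P :=
  Subgroup.comap_map_eq_self_of_injective K.subtype_injective P

universe u

variable {G : Type u} [Group G]

/-- The conjugate function of an induced function. -/
theorem conj_indFun [Fintype G] (T : Subgroup G) (θ : T → ℂ) (g : G) :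
    conj (indFun T θ g) = indFun T (fun t => conj (θ t)) g := by
  have h : ∀ y, conj (extendByZero T θ y) = extendByZero T (fun t => conj (θ t)) y := by
    intro y
    by_cases hy : y ∈ T
    · rw [extendByZero_mem θ hy, extendByZero_mem _ hy]
    · rw [extendByZero_notMem θ hy, extendByZero_notMem _ hy, map_zero]
  simp only [indFun, map_mul, map_inv₀, map_natCast, map_sum, h]

/-- Inducing is invariant under conjugation by a normalising element. -/
theorem indFun_conj_normalizer [Fintype G] (T : Subgroup G) {x : G}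
    (hx : x ∈ Subgroup.normalizer (T : Set G)) (θ θ' : T → ℂ)
    (h : ∀ t t' : T, (t' : G) = x * t * x⁻¹ → θ' t = θ t') : indFun T θ' = indFun T θ := by
  funext g
  simp only [indFun]
  congr 1
  refine Fintype.sum_equiv (Equiv.mulRight x⁻¹) _ _ fun y => ?_
  rw [Equiv.coe_mulRight, show (y * x⁻¹)⁻¹ * g * (y * x⁻¹) = x * (y⁻¹ * g * y) * x⁻¹ by group]
  by_cases hy : y⁻¹ * g * y ∈ T
  · have hy' := (Subgroup.mem_normalizer_iff.1 hx _).1 hy
    rw [extendByZero_mem _ hy, extendByZero_mem _ hy', h ⟨_, hy⟩ ⟨_, hy'⟩ rfl]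
  · rw [extendByZero_notMem _ hy,
      extendByZero_notMem _ fun h' => hy ((Subgroup.mem_normalizer_iff.1 hx _).2 h')]

/-- The value of a linear character at a conjugate is a value of the conjugate character. -/
theorem mem_inertia_linChar_iff {N : Subgroup G} [N.Normal] [Finite G] (lam : N →* ℂˣ) (x : G) :
    x ∈ inertia N (linChar lam : N → ℂ) ↔ ∀ n n' : N, (n' : G) = x⁻¹ * n * x → lam n' = lam n := by
  rw [mem_inertia]
  constructor
  · intro h n n' hn
    have h1 := congrFun h n
    simp only [conjFun, linChar_apply] at h1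
    refine Units.ext ?_
    rw [← h1]
    congr 2
    exact Subtype.ext (by simp [hn])
  · intro h
    funext n
    simp only [conjFun, linChar_apply]
    exact congrArg Units.val (h n _ (by simp))

theorem invert_step {N : Subgroup G} (hN : N.Normal) (lam : N →* ℂˣ) {x : G}
    (hx : ∀ n n' : N, (n' : G) = x * n * x⁻¹ → lam n' = (lam n)⁻¹) (n n' : N)
    (hn : (n' : G) = x⁻¹ * n * x) : lam n' = (lam n)⁻¹ := by
  have := hx n' n (by rw [hn]; group)
  rw [this, inv_inv]

theorem conj_value [Finite G] {N : Subgroup G} (lam : N →* ℂˣ) (n : N) :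
    conj ((lam n : ℂˣ) : ℂ) = (((lam n)⁻¹ : ℂˣ) : ℂ) := by
  have h : ((lam n : ℂˣ) : ℂ) ^ Nat.card N = 1 := by
    rw [← Units.val_pow_eq_pow_val, ← map_pow, pow_card_eq_one', map_one, Units.val_one]
  rw [Units.val_inv_eq_inv_val]
  exact (Complex.inv_eq_conj (Complex.norm_eq_one_of_pow_eq_one h Nat.card_pos.ne')).symm

/-- An element inverting `lam` normalizes its inertia group. -/
theorem conj_mem_inertia [Finite G] {N : Subgroup G} [N.Normal] (lam : N →* ℂˣ) {x : G}
    (hx : ∀ n n' : N, (n' : G) = x * n * x⁻¹ → lam n' = (lam n)⁻¹) :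
    x ∈ Subgroup.normalizer (inertia N (linChar lam : N → ℂ) : Set G) := by
  have hN : N.Normal := inferInstance
  have key : ∀ t n : G, t ∈ inertia N (linChar lam : N → ℂ) →
      (∀ (hn : n ∈ N) (m : N), (m : G) = t⁻¹ * n * t → lam m = lam ⟨n, hn⟩) :=
    fun t n ht hn m hm => (mem_inertia_linChar_iff lam t).1 ht ⟨n, hn⟩ m hm
  rw [Subgroup.mem_normalizer_iff]
  intro t
  constructor
  · intro ht
    rw [mem_inertia_linChar_iff]
    intro n n' hn'
    let a : N := ⟨x⁻¹ * n * x, by simpa using hN.conj_mem _ n.2 x⁻¹⟩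
    let b : N := ⟨t⁻¹ * a * t, by simpa using hN.conj_mem _ a.2 t⁻¹⟩
    rw [hx b n' (by rw [hn']; simp only [b, a]; group), key t a ht a.2 b rfl,
      invert_step hN lam hx n a rfl, inv_inv]
  · intro ht
    rw [mem_inertia_linChar_iff]
    intro n n' hn'
    let a : N := ⟨x * n * x⁻¹, hN.conj_mem _ n.2 x⟩
    let b : N := ⟨(x * t * x⁻¹)⁻¹ * a * (x * t * x⁻¹), by
      simpa using hN.conj_mem _ a.2 (x * t * x⁻¹)⁻¹⟩
    rw [invert_step hN lam hx b n' (by rw [hn']; simp only [b, a]; group),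
      key _ a ht a.2 b rfl, hx n a rfl, inv_inv]

/-- The extension of an invariant linear character along a complement. -/
theorem exists_extension_complement [Finite G] {N : Subgroup G} [N.Normal] (S T : Subgroup G)
    (hNT : N ≤ T) (hST : S ≤ T) (hgen : ∀ t ∈ T, ∃ n ∈ N, ∃ s ∈ S, t = n * s) (hint : N ⊓ S = ⊥)
    (lam : N →* ℂˣ) (hT : T ≤ inertia N (linChar lam : N → ℂ)) :
    ∃ ext : T →* ℂˣ, ∀ (t : T) (n : N), (n : G)⁻¹ * t ∈ S → ext t = lam n := by
  have hN : N.Normal := inferInstance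
  choose n hn s hs hts using hgen
  have huniq : ∀ (t : G) (ht : t ∈ T) (m : G), m ∈ N → m⁻¹ * t ∈ S → m = n t ht := by
    intro t ht m hm hms
    have h1 : (n t ht)⁻¹ * m ∈ N ⊓ S := ⟨N.mul_mem (N.inv_mem (hn t ht)) hm, by
      have h2 : (n t ht)⁻¹ * m = s t ht * (m⁻¹ * t)⁻¹ := by
        conv_rhs => arg 2; rw [hts t ht]
        group
      rw [h2]
      exact S.mul_mem (hs t ht) (S.inv_mem hms)⟩
    rw [hint, Subgroup.mem_bot] at h1
    exact (inv_mul_eq_one.1 h1).symm
  let f : T → ℂˣ := fun t => lam ⟨n t t.2, hn t t.2⟩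
  refine ⟨MonoidHom.mk' f fun t t' => ?_, fun t m hm => ?_⟩
  · have hmem : s t t.2 * n t' t'.2 * (s t t.2)⁻¹ ∈ N := hN.conj_mem _ (hn t' t'.2) _
    have hst : s t t.2 ∈ inertia N (linChar lam : N → ℂ) := hT (hST (hs t t.2))
    have h1 : n t t.2 * (s t t.2 * n t' t'.2 * (s t t.2)⁻¹) = n _ (T.mul_mem t.2 t'.2) := by
      refine huniq _ _ _ (N.mul_mem (hn t t.2) hmem) ?_
      have : (n t t.2 * (s t t.2 * n t' t'.2 * (s t t.2)⁻¹))⁻¹ * ((t : G) * t') =
          s t t.2 * s t' t'.2 := by
        conv_lhs => arg 2; rw [hts t t.2, hts t' t'.2]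
        group
      rw [this]
      exact S.mul_mem (hs t t.2) (hs t' t'.2)
    show lam ⟨n _ _, _⟩ = lam _ * lam _
    rw [(mem_inertia_linChar_iff lam _).1 hst ⟨_, hmem⟩ ⟨n t' t'.2, hn t' t'.2⟩ (by group),
      ← map_mul]
    exact congrArg lam (Subtype.ext h1.symm)
  · show lam ⟨n t t.2, _⟩ = lam m
    exact congrArg lam (Subtype.ext (huniq t t.2 m m.2 hm).symm)

variable [Fintype G]

open scoped Classical in
/-- **Complemented case.** -/
theorem exists_real_degree_inertia {N : Subgroup G} [N.Normal] (H : Subgroup G)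
    (hint : N ⊓ H = ⊥) (hgen : ∀ g : G, ∃ n ∈ N, ∃ h ∈ H, g = n * h) (hab : IsMulCommutative N)
    (lam : N →* ℂˣ) {x : G} (hx : ∀ n n' : N, (n' : G) = x * n * x⁻¹ → lam n' = (lam n)⁻¹) :
    ∃ χ : IrrCharacter G, (∀ g, ((χ : G → ℂ) g).im = 0) ∧
      charDegree (χ : G → ℂ) = (inertia N (linChar lam : N → ℂ)).index := by
  have hN : N.Normal := inferInstance
  haveI : Fintype N := Fintype.ofFinite _
  set T := inertia N (linChar lam : N → ℂ) with hTdef
  haveI : Fintype T := Fintype.ofFinite _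
  have hNT : N ≤ T := le_inertia (isClassFunction_coe _)
  -- an inverting element in the complement
  obtain ⟨m, hm, h, hh, rfl⟩ := hgen x
  have hxh : ∀ n n' : N, (n' : G) = h * n * h⁻¹ → lam n' = (lam n)⁻¹ := by
    intro n n' hn'
    refine hx n n' ?_
    have hc : m * (n' : G) = (n' : G) * m := congrArg Subtype.val (hab.is_comm.comm ⟨m, hm⟩ n')
    calc (n' : G) = m * (n' : G) * m⁻¹ := by rw [hc, mul_inv_cancel_right]
      _ = _ := by rw [hn']; group
  obtain ⟨ext, hext⟩ := exists_extension_complement (H ⊓ T) T hNT inf_le_right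
    (fun t ht => by
      obtain ⟨n, hn, k, hk, rfl⟩ := hgen t
      exact ⟨n, hn, k, ⟨hk, by simpa [mul_assoc] using T.mul_mem (T.inv_mem (hNT hn)) ht⟩, rfl⟩)
    (by rw [← inf_assoc, hint, bot_inf_eq]) lam le_rfl
  have hres : ∀ n : N, ext ⟨n, hNT n.2⟩ = lam n := fun n =>
    hext _ n (by simp)
  have hψ : mult (fun n : N => (linChar ext : T → ℂ) (Subgroup.inclusion hNT n)) (linChar lam) ≠ 0 := by
    rw [show (fun n : N => (linChar ext : T → ℂ) (Subgroup.inclusion hNT n)) = (linChar lam : N → ℂ)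
      from funext fun n => congrArg Units.val (hres n), mult_irr]
    simp
  refine ⟨⟨_, isIrrCharacter_indFun_inertia rfl hNT (linChar ext) hψ⟩, fun g => ?_, ?_⟩
  · show (indFun T (linChar ext : T → ℂ) g).im = 0
    rw [← Complex.conj_eq_iff_im, conj_indFun]
    refine congrFun (indFun_conj_normalizer T (conj_mem_inertia lam hxh) _ _ fun t t' ht' => ?_) g
    obtain ⟨n, hn, k, hk, hnk⟩ := hgen t
    have hkT : k ∈ T := by
      rw [show k = n⁻¹ * (t : G) by rw [hnk]; group]
      exact T.mul_mem (T.inv_mem (hNT hn)) t.2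
    have e1 : ext t = lam ⟨n, hn⟩ := hext t ⟨n, hn⟩ (by
      show n⁻¹ * (t : G) ∈ H ⊓ T
      rw [hnk, inv_mul_cancel_left]; exact ⟨hk, hkT⟩)
    have e2 : ext t' = lam ⟨h * n * h⁻¹, hN.conj_mem n hn h⟩ := hext t' ⟨_, _⟩ (by
      show (h * n * h⁻¹)⁻¹ * (t' : G) ∈ H ⊓ T
      rw [ht', hnk, show (h * n * h⁻¹)⁻¹ * (h * (n * k) * h⁻¹) = h * k * h⁻¹ by group]
      exact ⟨H.mul_mem (H.mul_mem hh hk) (H.inv_mem hh),
        (Subgroup.mem_normalizer_iff.1 (conj_mem_inertia lam hxh) k).1 hkT⟩)
    simp only [linChar_apply, e1, e2]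
    rw [hxh ⟨n, hn⟩ ⟨_, _⟩ rfl, conj_value]
  · refine charDegree_eq_of_map_one ?_
    show indFun T (linChar ext : T → ℂ) 1 = _
    rw [indFun_one_apply]
    simp

/-- A character of odd degree multiplicities has a real constituent. -/
theorem exists_real_constituent {Ψ : G → ℂ} (hΨ : IsCharacter G Ψ)
    (hreal : ∀ g, conj (Ψ g) = Ψ g) {t d : ℕ} (hd : Ψ 1 = ((t * d : ℕ) : ℂ)) (hodd : Odd d)
    (hdiv : ∀ χ : IrrCharacter G, mult Ψ χ ≠ 0 → t ∣ charDegree (χ : G → ℂ)) (ht : t ≠ 0) :
    ∃ χ : IrrCharacter G, (∀ g, ((χ : G → ℂ) g).im = 0) ∧ mult Ψ χ ≠ 0 := by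
  classical
  by_contra hcon
  simp only [not_exists, not_and, not_not] at hcon
  obtain ⟨s, hmem, hs⟩ := exists_eq_sum_mult hΨ
  have h1 := congrFun hs 1
  simp only [hd, Finset.sum_apply, Pi.smul_apply, smul_eq_mul, ← coe_charDegree] at h1
  have h2 : t * d = ∑ χ ∈ s, mult Ψ χ * charDegree (χ : G → ℂ) := by exact_mod_cast h1
  have h3 : ∀ χ ∈ s, mult Ψ χ * charDegree (χ : G → ℂ) =
      t * (mult Ψ χ * (charDegree (χ : G → ℂ) / t)) := fun χ hχ => by
    rw [mul_left_comm, Nat.mul_div_cancel' (hdiv χ ((hmem χ).1 hχ))]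
  rw [Finset.sum_congr rfl h3, ← Finset.mul_sum] at h2
  have h4 : d = ∑ χ ∈ s, mult Ψ χ * (charDegree (χ : G → ℂ) / t) :=
    Nat.eq_of_mul_eq_mul_left (Nat.pos_of_ne_zero ht) h2
  let cc : IrrCharacter G → IrrCharacter G := fun χ =>
    ⟨_, isIrrCharacter_ringHom χ.2 (starRingEnd ℂ)⟩
  have hcc : ∀ χ g, (cc χ : G → ℂ) g = conj ((χ : G → ℂ) g) := fun χ g => rfl
  have hmult : ∀ χ, mult Ψ (cc χ) = mult Ψ χ := by
    intro χ
    have h := classInner_eq_mult hΨ (cc χ)
    have e : classInner Ψ (cc χ : G → ℂ) = conj (classInner Ψ (χ : G → ℂ)) := by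
      simp only [classInner, map_mul, map_sum, map_inv₀, map_natCast, hcc, hreal]
    rw [e, classInner_eq_mult hΨ χ, map_natCast] at h
    exact_mod_cast h.symm
  have hdeg : ∀ χ, charDegree (cc χ : G → ℂ) = charDegree (χ : G → ℂ) := fun χ =>
    charDegree_eq_of_map_one (by rw [hcc, ← coe_charDegree, map_natCast])
  have hev : ((∑ χ ∈ s, mult Ψ χ * (charDegree (χ : G → ℂ) / t) : ℕ) : ZMod 2) = 0 := by
    rw [Nat.cast_sum]
    refine Finset.sum_involution (fun χ _ => cc χ) (fun χ _ => ?_) (fun χ hχ hne heq => ?_)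
      (fun χ hχ => (hmem _).2 (by rw [hmult]; exact (hmem χ).1 hχ))
      (fun χ _ => Subtype.ext (funext fun g => by rw [hcc, hcc, Complex.conj_conj]))
    · rw [hmult, hdeg, ← two_mul, show (2 : ZMod 2) = 0 from rfl, zero_mul]
    · refine (hmem χ).1 hχ (hcon χ fun g => ?_)
      rw [← Complex.conj_eq_iff_im, ← hcc χ g]
      exact congrFun (congrArg Subtype.val heq) g
  rw [← h4, ZMod.natCast_eq_zero_iff_even] at hev
  exact Nat.not_even_iff_odd.2 hodd hev

set_option maxHeartbeats 800000 in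
open scoped Classical in
/-- **Odd case.** -/
theorem exists_real_over {N : Subgroup G} [N.Normal] [Fintype N] (hodd : Odd (Nat.card N))
    (lam : N →* ℂˣ) {x : G} (hx : ∀ n n' : N, (n' : G) = x * n * x⁻¹ → lam n' = (lam n)⁻¹) :
    ∃ χ : IrrCharacter G, (∀ g, ((χ : G → ℂ) g).im = 0) ∧
      mult (fun n : N => (χ : G → ℂ) n) (linChar lam) ≠ 0 := by
  have hN : N.Normal := inferInstance
  haveI : Fact (Nat.Prime 2) := ⟨Nat.prime_two⟩
  set T := inertia N (linChar lam : N → ℂ) with hTdef
  have hNT : N ≤ T := le_inertia (isClassFunction_coe _)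
  let Ts : Subgroup G :=
    { carrier := {g | g ∈ T ∨ ∀ n n' : N, (n' : G) = g * n * g⁻¹ → lam n' = (lam n)⁻¹}
      one_mem' := Or.inl T.one_mem
      inv_mem' := fun {a} ha => ha.imp T.inv_mem fun h n n' hn => by
        rw [inv_inv] at hn
        exact invert_step hN lam h n n' hn
      mul_mem' := fun {a b} ha hb => by
        have hfix : ∀ {t : G}, t ∈ T → ∀ n n' : N, (n' : G) = t * n * t⁻¹ → lam n' = lam n :=
          fun {t} ht n n' hn => ((mem_inertia_linChar_iff lam t).1 ht n' n (by rw [hn]; group)).symm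
        rcases ha with ha | ha <;> rcases hb with hb | hb
        · exact Or.inl (T.mul_mem ha hb)
        · refine Or.inr fun n n' hn => ?_
          let m : N := ⟨b * n * b⁻¹, hN.conj_mem _ n.2 b⟩
          rw [hfix ha m n' (by rw [hn]; simp only [m]; group), hb n m rfl]
        · refine Or.inr fun n n' hn => ?_
          let m : N := ⟨b * n * b⁻¹, hN.conj_mem _ n.2 b⟩
          rw [ha m n' (by rw [hn]; simp only [m]; group), hfix hb n m rfl]
        · refine Or.inl ((mem_inertia_linChar_iff lam _).2 fun n n' hn => ?_)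
          let m : N := ⟨a⁻¹ * n * a, by simpa using hN.conj_mem _ n.2 a⁻¹⟩
          rw [invert_step hN lam hb m n' (by rw [hn]; simp only [m]; group),
            invert_step hN lam ha n m rfl, inv_inv] }
  obtain ⟨P⟩ : Nonempty (Sylow 2 Ts) := inferInstance
  let S : Subgroup G := (P : Subgroup Ts).map Ts.subtype
  have hSTs : S ≤ Ts := Subgroup.map_subtype_le _
  have hTTs : T ≤ Ts := fun g hg => Or.inl hg
  have hSp : IsPGroup 2 S := P.isPGroup'.map _
  have hSidx : ¬ 2 ∣ S.relIndex Ts := by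
    rw [Subgroup.relIndex, subgroupOf_map_subtype']
    exact P.not_dvd_index
  have hTn : (T.subgroupOf Ts).Normal := by
    refine ⟨fun t ht g => ?_⟩
    rw [Subgroup.mem_subgroupOf] at ht ⊢
    have hg : (g : G) ∈ Subgroup.normalizer (T : Set G) := by
      rcases g.2 with hg | hg
      · exact Subgroup.le_normalizer hg
      · exact conj_mem_inertia lam hg
    exact (Subgroup.mem_normalizer_iff.1 hg _).1 ht
  let S0 : Subgroup G := S ⊓ T
  have hS0idx : ¬ 2 ∣ S0.relIndex T := by
    haveI := hTn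
    have h1 : ((P : Subgroup Ts)).relIndex (T.subgroupOf Ts) ∣ (P : Subgroup Ts).index :=
      relIndex_dvd_index_of_normal_right _ _
    have h2 : (P : Subgroup Ts).relIndex (T.subgroupOf Ts) = S0.relIndex T := by
      rw [Subgroup.inf_relIndex_right]
      conv_lhs => rw [← subgroupOf_map_subtype' (P : Subgroup Ts)]
      rw [Subgroup.relIndex_subgroupOf hTTs]
    exact fun h => P.not_dvd_index ((h2 ▸ h : _).trans h1)
  have hint : N ⊓ S0 = ⊥ := Subgroup.inf_eq_bot_of_coprime (by
    obtain ⟨k, hk⟩ := IsPGroup.iff_card.1 (hSp.to_le (inf_le_left : S0 ≤ S))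
    rw [hk]
    exact (hodd.coprime_two_right).pow_right k)
  let M : Subgroup G := N ⊔ S0
  haveI : Fintype M := Fintype.ofFinite _
  have hNM : N ≤ M := le_sup_left
  have hMT : M ≤ T := sup_le hNT inf_le_right
  have hgen : ∀ m ∈ M, ∃ n ∈ N, ∃ s ∈ S0, m = n * s := by
    intro m hm
    rw [← SetLike.mem_coe, Subgroup.normal_mul N S0] at hm
    obtain ⟨n, hn, s, hs, rfl⟩ := hm
    exact ⟨n, hn, s, hs, rfl⟩
  obtain ⟨ext, hext⟩ := exists_extension_complement S0 M hNM le_sup_right hgen hint lam hMT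
  -- an inverting element of `S`
  obtain ⟨y, hyS, hy⟩ : ∃ y ∈ S, ∀ n n' : N, (n' : G) = y * n * y⁻¹ → lam n' = (lam n)⁻¹ := by
    by_cases hST : S ≤ T
    · -- then `x` already lies in `T`
      have hxT : x ∈ T := by
        have hxTs : x ∈ Ts := Or.inr hx
        by_contra hxT
        haveI := hTn
        have hx2 : x * x ∈ T := (mem_inertia_linChar_iff lam _).2 fun n n' hn => by
          let m : N := ⟨x⁻¹ * n * x, by simpa using hN.conj_mem _ n.2 x⁻¹⟩
          rw [invert_step hN lam hx m n' (by rw [hn]; simp only [m]; group),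
            invert_step hN lam hx n m rfl, inv_inv]
        have hodd2 : Odd (T.relIndex Ts) := Nat.not_even_iff_odd.1 fun he =>
          hSidx ((even_iff_two_dvd.1 he).trans (Subgroup.relIndex_dvd_of_le_left Ts hST))
        obtain ⟨j, hj⟩ := hodd2
        have hpow : x ^ (2 * j + 1) ∈ T := by
          have h := Subgroup.mem_subgroupOf.1
            ((T.subgroupOf Ts).pow_index_mem (⟨x, hxTs⟩ : Ts))
          rw [SubmonoidClass.coe_pow, show (T.subgroupOf Ts).index = T.relIndex Ts from rfl, hj] at h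
          exact h
        refine hxT ?_
        rw [show x = ((x * x) ^ j)⁻¹ * x ^ (2 * j + 1) by rw [pow_succ, pow_mul, pow_two]; group]
        exact T.mul_mem (T.inv_mem (T.pow_mem hx2 j)) hpow
      refine ⟨1, S.one_mem, fun n n' hn => ?_⟩
      have : n' = n := Subtype.ext (by simpa using hn)
      subst this
      let m : N := ⟨x * n' * x⁻¹, hN.conj_mem _ n'.2 x⟩
      exact ((mem_inertia_linChar_iff lam x).1 hxT m n' (by simp only [m]; group)).trans
        (hx n' m rfl)
    · obtain ⟨y, hyS, hyT⟩ := SetLike.not_le_iff_exists.1 hST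
      exact ⟨y, hyS, (hSTs hyS).resolve_left hyT⟩
  have hynT : y ∈ Subgroup.normalizer (T : Set G) := conj_mem_inertia lam hy
  have hyM : ∀ s : G, s ∈ S0 ↔ y * s * y⁻¹ ∈ S0 := fun s => by
    constructor
    · exact fun hs => ⟨S.mul_mem (S.mul_mem hyS hs.1) (S.inv_mem hyS),
        (Subgroup.mem_normalizer_iff.1 hynT s).1 hs.2⟩
    · exact fun hs => ⟨by simpa [mul_assoc] using S.mul_mem (S.mul_mem (S.inv_mem hyS) hs.1) hyS,
        (Subgroup.mem_normalizer_iff.1 hynT s).2 hs.2⟩
  have hyn : y ∈ Subgroup.normalizer (M : Set G) := by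
    rw [Subgroup.mem_normalizer_iff]
    intro m
    constructor
    · intro hm
      obtain ⟨n, hn, s, hs, rfl⟩ := hgen m hm
      rw [show y * (n * s) * y⁻¹ = (y * n * y⁻¹) * (y * s * y⁻¹) by group]
      exact M.mul_mem (hNM (hN.conj_mem n hn y)) (le_sup_right (a := N) ((hyM s).1 hs))
    · intro hm
      obtain ⟨n, hn, s, hs, h⟩ := hgen _ hm
      rw [show m = (y⁻¹ * n * y) * (y⁻¹ * s * y) by
        rw [show y⁻¹ * n * y * (y⁻¹ * s * y) = y⁻¹ * (n * s) * y by group, ← h]; group]
      exact M.mul_mem (hNM (by simpa using hN.conj_mem n hn y⁻¹))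
        (le_sup_right (a := N) ((hyM _).2 (by simpa [mul_assoc] using hs)))
  -- the induced character
  set Ψ := indFun M (linChar ext : M → ℂ) with hΨdef
  have hΨ : IsCharacter G Ψ := isCharacter_indFun M (isCharacter_coe _)
  have hΨreal : ∀ g, conj (Ψ g) = Ψ g := fun g => by
    rw [hΨdef, conj_indFun]
    refine congrFun (indFun_conj_normalizer M hyn _ _ fun t t' ht' => ?_) g
    obtain ⟨n, hn, s, hs, hns⟩ := hgen t t.2
    have e1 : ext t = lam ⟨n, hn⟩ := hext t ⟨n, hn⟩ (by
      show n⁻¹ * (t : G) ∈ S0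
      rw [hns, inv_mul_cancel_left]; exact hs)
    have e2 : ext t' = lam ⟨y * n * y⁻¹, hN.conj_mem n hn y⟩ := hext t' ⟨_, _⟩ (by
      show (y * n * y⁻¹)⁻¹ * (t' : G) ∈ S0
      rw [ht', hns, show (y * n * y⁻¹)⁻¹ * (y * (n * s) * y⁻¹) = y * s * y⁻¹ by group]
      exact (hyM s).1 hs)
    simp only [linChar_apply, e1, e2]
    rw [hy ⟨n, hn⟩ ⟨_, _⟩ rfl, conj_value]
  have hover : ∀ χ : IrrCharacter G, mult Ψ χ ≠ 0 →
      mult (fun n : N => (χ : G → ℂ) n) (linChar lam) ≠ 0 := by
    intro χ hχ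
    rw [hΨdef, mult_indFun_irr] at hχ
    have h := mult_mul_mult_le_restrict (Subgroup.inclusion hNM)
      (isCharacter_restrict (isCharacter_coe χ) M) (linChar ext) (linChar lam)
    have h1 : mult (fun n : N => (linChar ext : M → ℂ) (Subgroup.inclusion hNM n)) (linChar lam) = 1 := by
      rw [show (fun n : N => (linChar ext : M → ℂ) (Subgroup.inclusion hNM n)) =
        (linChar lam : N → ℂ) from funext fun n => congrArg Units.val (hext _ n (by simp)), mult_irr]
      simp
    rw [h1, mul_one] at h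
    exact fun h0 => hχ (Nat.le_zero.1 (h.trans_eq h0))
  obtain ⟨χ, hχr, hχm⟩ := exists_real_constituent hΨ hΨreal (t := T.index) (d := M.relIndex T)
    (by
      rw [hΨdef, indFun_one_apply, ← Subgroup.relIndex_mul_index hMT, mul_comm T.index]
      simp)
    (by
      rw [← Nat.not_even_iff_odd, even_iff_two_dvd]
      exact fun h => hS0idx (h.trans (Subgroup.relIndex_dvd_of_le_left T le_sup_right)))
    (fun χ hχ => by
      have h := clifford_one χ (linChar lam) (hover χ hχ)
      rw [linChar_map_one, mul_one, ← coe_charDegree, ← Nat.cast_mul] at h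
      rw [Nat.cast_inj.1 h]
      exact dvd_mul_left _ _)
    Subgroup.index_ne_zero_of_finite
  exact ⟨χ, hχr, hover χ hχm⟩

end CfsgLib.RealDegree
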